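import Mathlib

/-! Arithmetic of coded 2-groups for kernel certificates: packed tables, towers of index-two
extensions, lists, the certificate tree. -/

set_option autoImplicit false

namespace Cfsg.Agent.D8E

/-- A multiplication of codes. -/
abbrev Mu := ℕ → ℕ → ℕ
/-- One level of a tower: images of the lower generators, and the square. -/
abbrev Lv := List ℕ × ℕ
/-- A pair of tuples. -/
abbrev Fc := List ℕ × List ℕ

noncomputable section

def an (a b : Bool) : Bool := Bool.rec false b a
def orr (a b : Bool) : Bool := Bool.rec b true a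
def nt (a : Bool) : Bool := Bool.rec true false a
def cd {α : Type} (c : Bool) (x y : α) : α := Bool.rec y x c
def force {α : Type} (a : ℕ) (k : ℕ → α) : α := Nat.rec (k 0) (fun n _ => k (Nat.succ n)) a

/-- Entry `i` of a packed table. -/
def gt (T i : ℕ) : ℕ := Nat.land (Nat.shiftRight T (Nat.mul 12 i)) 4095
def hd (d : ℕ) : ℕ := Nat.land d 4095
def tl (d : ℕ) : ℕ := Nat.shiftRight d 12
def sk (d j : ℕ) : ℕ := Nat.shiftRight d (Nat.mul 12 j)
def bit (S x : ℕ) : Bool := Nat.beq (Nat.land (Nat.shiftRight S x) 1) 1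
def odd (x : ℕ) : Bool := Nat.beq (Nat.land x 1) 1
def lt (a b : ℕ) : Bool := Nat.ble (Nat.succ a) b
def ne (a b : ℕ) : Bool := nt (Nat.beq a b)

/-- The first `n` entries of `d`. -/
def dl (d n : ℕ) : List ℕ :=
  Nat.rec (motive := fun _ => ℕ → List ℕ) (fun _ => []) (fun _ ih d => hd d :: ih (tl d)) n d

def len {α : Type} (l : List α) : ℕ := List.rec 0 (fun _ _ ih => Nat.succ ih) l
def mp (f : ℕ → ℕ) (l : List ℕ) : List ℕ := List.rec [] (fun a _ ih => f a :: ih) l
def al {α : Type} (p : α → Bool) (l : List α) : Bool := List.rec true (fun a _ ih => an (p a) ih) l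
def fl (p : ℕ → Bool) (l : List ℕ) : List ℕ := List.rec [] (fun a _ ih => cd (p a) (a :: ih) ih) l
def app {α : Type} (l r : List α) : List α := List.rec r (fun a _ ih => a :: ih) l
def el (x : ℕ) (l : List ℕ) : Bool := List.rec false (fun a _ ih => orr (Nat.beq a x) ih) l
def nth {α : Type} (z : α) (l : List α) : ℕ → α :=
  List.rec (motive := fun _ => ℕ → α) (fun _ => z)
    (fun a _ ih i => Nat.rec a (fun j _ => ih j) i) l
/-- Entry `i` passed to `k`; false if there is none. -/
def nthK {α : Type} (l : List α) (k : α → Bool) : ℕ → Bool :=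
  List.rec (motive := fun _ => ℕ → Bool) (fun _ => false)
    (fun a _ ih i => Nat.rec (k a) (fun j _ => ih j) i) l
def tk {α : Type} (l : List α) : ℕ → List α :=
  List.rec (motive := fun _ => ℕ → List α) (fun _ => [])
    (fun a _ ih i => Nat.rec [] (fun j _ => a :: ih j) i) l
def dr {α : Type} (l : List α) : ℕ → List α :=
  List.rec (motive := fun _ => ℕ → List α) (fun _ => [])
    (fun a r ih i => Nat.rec (a :: r) (fun j _ => ih j) i) l
def eqL (l : List ℕ) : List ℕ → Bool :=
  List.rec (motive := fun _ => List ℕ → Bool) (fun r => List.rec true (fun _ _ _ => false) r)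
    (fun a _ ih r => List.rec false (fun b r' _ => an (Nat.beq a b) (ih r')) r) l
/-- `f` on corresponding entries of two lists of the same length. -/
def al2 (f : ℕ → ℕ → Bool) (l : List ℕ) : List ℕ → Bool :=
  List.rec (motive := fun _ => List ℕ → Bool) (fun r => List.rec true (fun _ _ _ => false) r)
    (fun a _ ih r => List.rec false (fun b r' _ => an (f a b) (ih r')) r) l
/-- `f` on the entries of `l`, each with the next entry of the stream. -/
def alD (f : ℕ → ℕ → Bool) (l : List ℕ) : ℕ → Bool :=
  List.rec (motive := fun _ => ℕ → Bool) (fun _ => true)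
    (fun a _ ih d => an (f a (hd d)) (ih (tl d))) l
def frcL {α : Type} (l : List ℕ) : (List ℕ → α) → α :=
  List.rec (motive := fun _ => (List ℕ → α) → α) (fun k => k [])
    (fun a _ ih k => force a fun a' => ih fun r => k (a' :: r)) l
def rng (n : ℕ) : List ℕ := Nat.rec [] (fun i ih => i :: ih) n
/-- `[x, 2x, 4x, …]` of length `k`. -/
def gl (k : ℕ) : ℕ → List ℕ :=
  Nat.rec (motive := fun _ => ℕ → List ℕ) (fun _ => []) (fun _ ih x => x :: ih (Nat.add x x)) k
def ltL (N : ℕ) (l : List ℕ) : Bool := al (fun x => lt x N) l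

/-- The table of `f lo, …, f (lo + 2^j - 1)`. -/
def tabF (f : ℕ → ℕ) (j : ℕ) : ℕ → ℕ :=
  Nat.rec (motive := fun _ => ℕ → ℕ) f (fun i ih lo => Nat.add (ih lo)
    (Nat.shiftLeft (ih (Nat.add lo (Nat.pow 2 i))) (Nat.mul 12 (Nat.pow 2 i)))) j
def orF (f : ℕ → ℕ) (j : ℕ) : ℕ → ℕ :=
  Nat.rec (motive := fun _ => ℕ → ℕ) f
    (fun i ih lo => Nat.lor (ih lo) (ih (Nat.add lo (Nat.pow 2 i)))) j
def allF (p : ℕ → Bool) (j : ℕ) : ℕ → Bool :=
  Nat.rec (motive := fun _ => ℕ → Bool) p
    (fun i ih lo => an (ih lo) (ih (Nat.add lo (Nat.pow 2 i)))) j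

/-- One more level: `R` is the table of right multiplication by the generator with code `n`. -/
def ext (n R : ℕ) (m : Mu) (a b : ℕ) : ℕ :=
  Bool.rec (m a b) (m (Nat.land (Nat.shiftRight R (Nat.mul 12 a)) 4095) (Nat.sub b n)) (Nat.ble n b)
def g7 (T i : ℕ) : ℕ := Nat.land (Nat.shiftRight T (Nat.mul 7 i)) 127
/-- The flattened lowest levels. -/
def bs (tb n0 a b : ℕ) : ℕ :=
  Nat.sub (Nat.add a (Nat.land (Nat.shiftRight tb
    (Nat.mul 7 (Nat.add (Nat.mul (Nat.mod a n0) 64) b))) 127)) 64
/-- The multiplication from the tables (top level first, `n` the code of the top generator). -/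
def mk (m0 : Mu) (tabs : List ℕ) : ℕ → Mu :=
  List.rec (motive := fun _ => ℕ → Mu) (fun _ => m0)
    (fun R _ ih n => ext n R (ih (Nat.div n 2))) tabs
def mkK (m0 : Mu) (tabs : List ℕ) : ℕ → (Mu → Bool) → Bool :=
  List.rec (motive := fun _ => ℕ → (Mu → Bool) → Bool) (fun _ k => k m0)
    (fun R _ ih n k => force n fun n' => ih (Nat.div n' 2) fun m => k (ext n' R m)) tabs

/-- The product of the entries of `gs` selected by the bits of `cv`, later entries on the left. -/
def pr (m : Mu) (gs : List ℕ) : ℕ → ℕ :=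
  List.rec (motive := fun _ => ℕ → ℕ) (fun _ => 0) (fun g _ ih cv =>
    cd (Nat.ble cv 1) (Nat.mul cv g)
      (cd (odd cv) (m (ih (Nat.shiftRight cv 1)) g) (ih (Nat.shiftRight cv 1)))) gs
/-- Doubles a table of `2^j` entries. -/
def dbl (m : Mu) (g j A : ℕ) : ℕ :=
  Nat.add A (Nat.shiftLeft (tabF (fun l => m g (gt A l)) j 0) (Nat.mul 12 (Nat.pow 2 j)))
/-- The table of all products of entries of `gs`. -/
def mkA (m : Mu) (gs : List ℕ) : ℕ :=
  List.rec (motive := fun _ => ℕ → ℕ → ℕ) (fun _ A => A)
    (fun g _ ih j A => force (dbl m g j A) fun A' => ih (Nat.succ j) A') gs 0 0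
/-- The tables after adding level `k`. -/
def extT (m : Mu) (k : ℕ) (tabs : List ℕ) (r : Lv) : List ℕ :=
  force (mkA m r.1) fun A => force (Nat.pow 2 k) fun n =>
    Nat.add (tabF (fun a => Nat.add n (gt A a)) k 0)
      (Nat.shiftLeft (tabF (fun l => m r.2 (gt A l)) k 0) (Nat.mul 12 n)) ::
    mp (fun R => Nat.add R
      (Nat.shiftLeft (tabF (fun l => Nat.add n (gt R l)) k 0) (Nat.mul 12 n))) tabs
/-- The tables of a tower (top level first) over `k0` flattened levels. -/
def towT (m0 : Mu) (k0 : ℕ) (rels : List Lv) : List ℕ :=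
  List.rec [] (fun r rs ih => extT (mk m0 ih (2 ^ (k0 + rs.length) / 2)) (k0 + rs.length) ih r) rels
/-- The multiplication of a tower. -/
def towM (m0 : Mu) (k0 : ℕ) (rels : List Lv) : Mu :=
  mk m0 (towT m0 k0 rels) (2 ^ (k0 + rels.length) / 2)
def stepK (m0 m : Mu) (k : ℕ) (tabs : List ℕ) (r : Lv) (c : List ℕ → Mu → Bool) : Bool :=
  frcL (extT m k tabs r) fun tabs' => mkK m0 tabs' (Nat.pow 2 k) fun m' => c tabs' m'
def towK (m0 : Mu) (k0 : ℕ) (rels : List Lv) : (ℕ → List ℕ → Mu → Bool) → Bool :=
  List.rec (motive := fun _ => (ℕ → List ℕ → Mu → Bool) → Bool) (fun c => c k0 [] m0)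
    (fun r _ ih c => ih fun k tabs m => stepK m0 m k tabs r fun tabs' m' =>
      force (Nat.succ k) fun k' => c k' tabs' m') rels

def cm (m : Mu) (a b : ℕ) : Bool := Nat.beq (m a b) (m b a)
/-- `p⁻¹ a p = b`. -/
def cj (m : Mu) (a p b : ℕ) : Bool :=
  cd (Nat.beq p 0) (Nat.beq a b) (Nat.beq (m a p) (m p b))
def pw (m : Mu) (e n : ℕ) : ℕ := Nat.rec 0 (fun _ ih => m ih e) n
/-- The value of a word in the letters `e`. -/
def evW (m : Mu) (e w : List ℕ) : ℕ := List.rec 0 (fun a _ ih => m (nth 0 e a) ih) w

/-- Lists the subgroup generated by a subnormal chain: `c` gets the table and the bit mask. -/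
def subK (m : Mu) (gs : List ℕ) (c : ℕ → ℕ → Bool) : Bool :=
  List.rec (motive := fun _ => List ℕ → ℕ → ℕ → ℕ → Bool) (fun _ _ A S => c A S)
    (fun g _ ih dn j A S => an (nt (bit S g)) (force (dbl m g j A) fun A' =>
      force (Nat.lor S (orF (fun l => Nat.shiftLeft 1 (gt A' l)) j (Nat.pow 2 j))) fun S' =>
        an (al (fun h => bit S' (m h g)) (g :: dn)) (ih (g :: dn) (Nat.succ j) A' S')))
    gs [] 0 0 1

end

/-- Certificates. -/
inductive Ct where
  | nil : Ct
  | nd : ℕ → Ct → Ct → Ct

noncomputable section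

def Ct.d (t : Ct) : ℕ := Ct.rec 0 (fun d _ _ _ _ => d) t
def Ct.l (t : Ct) : Ct := Ct.rec Ct.nil (fun _ l _ _ _ => l) t
def Ct.r (t : Ct) : Ct := Ct.rec Ct.nil (fun _ _ r _ _ => r) t
/-- The list of `f d l` along the right spine. -/
def Ct.ch {α : Type} (f : ℕ → Ct → α) (t : Ct) : List α :=
  Ct.rec [] (fun d l _ _ ih => f d l :: ih) t
/-- `f` on the entries of `l`, each with the next datum of the right spine of `t`. -/
def alT {α : Type} (f : α → ℕ → Bool) (l : List α) : Ct → Bool :=
  List.rec (motive := fun _ => Ct → Bool) (fun _ => true)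
    (fun a _ ih t => an (f a t.d) (ih t.r)) l

end

@[simp] theorem an_eq (a b : Bool) : an a b = (a && b) := by cases a <;> rfl
@[simp] theorem orr_eq (a b : Bool) : orr a b = (a || b) := by cases a <;> rfl
@[simp] theorem nt_eq (a : Bool) : nt a = !a := by cases a <;> rfl
@[simp] theorem cd_true {α : Type} (x y : α) : cd true x y = x := rfl
@[simp] theorem cd_false {α : Type} (x y : α) : cd false x y = y := rfl
theorem cd_eq {α : Type} (c : Bool) (x y : α) : cd c x y = if c = true then x else y := by
  cases c <;> rfl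
@[simp] theorem force_eq {α : Type} (a : ℕ) (k : ℕ → α) : force a k = k a := by cases a <;> rfl
@[simp] theorem lt_eq (a b : ℕ) : lt a b = true ↔ a < b := Nat.ble_eq.to_iff
@[simp] theorem ne_eq' (a b : ℕ) : ne a b = true ↔ a ≠ b := by simp [ne, Nat.beq_eq_true_eq, ← Bool.not_eq_true]
@[simp] theorem odd_eq (x : ℕ) : odd x = true ↔ x % 2 = 1 := by
  rw [odd, Nat.beq_eq, show Nat.land x 1 = x &&& 1 from rfl, Nat.and_one_is_mod]
@[simp] theorem bit_eq (S x : ℕ) : bit S x = S.testBit x := by
  rw [Bool.eq_iff_iff, bit, Nat.beq_eq, show Nat.land (Nat.shiftRight S x) 1 = (S >>> x) &&& 1 from rfl,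
    Nat.and_one_is_mod, Nat.testBit_eq_decide_div_mod_eq, Nat.shiftRight_eq_div_pow, decide_eq_true_eq]
@[simp] theorem len_eq {α : Type} (l : List α) : len l = l.length := by
  induction l with
  | nil => rfl
  | cons a r ih => exact congrArg Nat.succ ih
@[simp] theorem mp_eq (f : ℕ → ℕ) (l : List ℕ) : mp f l = l.map f := by
  induction l with
  | nil => rfl
  | cons a r ih => exact congrArg (f a :: ·) ih
@[simp] theorem al_eq {α : Type} (p : α → Bool) (l : List α) : al p l = l.all p := by
  induction l with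
  | nil => rfl
  | cons a r ih => exact (an_eq _ _).trans (congrArg (p a && ·) ih)
@[simp] theorem fl_eq (p : ℕ → Bool) (l : List ℕ) : fl p l = l.filter p := by
  induction l with
  | nil => rfl
  | cons a r ih =>
    show cd (p a) (a :: fl p r) (fl p r) = _
    rw [ih, List.filter_cons, cd_eq]
@[simp] theorem app_eq {α : Type} (l r : List α) : app l r = l ++ r := by
  induction l with
  | nil => rfl
  | cons a s ih => exact congrArg (a :: ·) ih
@[simp] theorem el_eq (x : ℕ) (l : List ℕ) : el x l = true ↔ x ∈ l := by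
  induction l with
  | nil => simp [el]
  | cons a r ih =>
    show orr (Nat.beq a x) (el x r) = true ↔ _
    rw [orr_eq, Bool.or_eq_true, ih, Nat.beq_eq, List.mem_cons, eq_comm]
@[simp] theorem nth_eq {α : Type} (z : α) (l : List α) (i : ℕ) : nth z l i = l.getD i z := by
  induction l generalizing i with
  | nil => rfl
  | cons a r ih => cases i with
    | zero => rfl
    | succ j => exact ih j
theorem nthK_eq {α : Type} (l : List α) (k : α → Bool) (i : ℕ) :
    nthK l k i = true ↔ ∃ h : i < l.length, k l[i] = true := by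
  induction l generalizing i with
  | nil => simp [nthK]
  | cons a r ih => cases i with
    | zero => exact ⟨fun h => ⟨Nat.succ_pos _, h⟩, fun ⟨_, h⟩ => h⟩
    | succ j => exact (ih j).trans (by simp)
@[simp] theorem tk_eq {α : Type} (l : List α) (i : ℕ) : tk l i = l.take i := by
  induction l generalizing i with
  | nil => simp [tk]
  | cons a r ih => cases i with
    | zero => rfl
    | succ j => exact congrArg (a :: ·) (ih j)
@[simp] theorem dr_eq {α : Type} (l : List α) (i : ℕ) : dr l i = l.drop i := by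
  induction l generalizing i with
  | nil => simp [dr]
  | cons a r ih => cases i with
    | zero => rfl
    | succ j => exact ih j
@[simp] theorem eqL_eq (l r : List ℕ) : eqL l r = true ↔ l = r := by
  induction l generalizing r with
  | nil => cases r <;> simp [eqL]
  | cons a s ih => cases r with
    | nil => simp [eqL]
    | cons b r' =>
      show an (Nat.beq a b) (eqL s r') = true ↔ _
      rw [an_eq, Bool.and_eq_true, ih, Nat.beq_eq, List.cons.injEq]
theorem al2_eq (f : ℕ → ℕ → Bool) (l r : List ℕ) :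
    al2 f l r = true ↔ List.Forall₂ (fun a b => f a b = true) l r := by
  induction l generalizing r with
  | nil => cases r <;> simp [al2]
  | cons a s ih => cases r with
    | nil => simp [al2]
    | cons b r' =>
      show an (f a b) (al2 f s r') = true ↔ _
      rw [an_eq, Bool.and_eq_true, ih, List.forall₂_cons]
@[simp] theorem dl_length (d n : ℕ) : (dl d n).length = n := by
  induction n generalizing d with
  | zero => rfl
  | succ j ih => exact congrArg Nat.succ (ih (tl d))
theorem alD_eq (f : ℕ → ℕ → Bool) (l : List ℕ) (d : ℕ) :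
    alD f l d = al2 f l (dl d l.length) := by
  induction l generalizing d with
  | nil => rfl
  | cons a s ih => exact congrArg (an (f a (hd d))) (ih (tl d))
theorem alT_eq {α : Type} (f : α → ℕ → Bool) (l : List α) (t : Ct) (h : alT f l t = true) :
    ∀ a ∈ l, ∃ d, f a d = true := by
  induction l generalizing t with
  | nil => simp
  | cons a s ih =>
    have h1 : an (f a t.d) (alT f s t.r) = true := h
    rw [an_eq, Bool.and_eq_true] at h1
    exact List.forall_mem_cons.2 ⟨⟨_, h1.1⟩, ih _ h1.2⟩
@[simp] theorem frcL_eq {α : Type} (l : List ℕ) (k : List ℕ → α) : frcL l k = k l := by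
  induction l generalizing k with
  | nil => rfl
  | cons a r ih =>
    show force a (fun a' => frcL r fun r => k (a' :: r)) = _
    rw [force_eq, ih]
@[simp] theorem mem_rng (n x : ℕ) : x ∈ rng n ↔ x < n := by
  induction n with
  | zero => simp [rng]
  | succ j ih =>
    show x ∈ j :: rng j ↔ _
    rw [List.mem_cons, ih]; omega
theorem gl_eq (k x : ℕ) : gl k x = (List.range k).map fun j => x * 2 ^ j := by
  induction k generalizing x with
  | zero => rfl
  | succ j ih =>
    show x :: gl j (x + x) = _
    rw [ih, List.range_succ_eq_map, List.map_cons, List.map_map]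
    simp only [pow_zero, mul_one, List.cons.injEq, true_and]
    exact List.map_congr_left fun i _ => by simp only [Function.comp, Nat.succ_eq_add_one]; ring
@[simp] theorem ltL_eq (N : ℕ) (l : List ℕ) : ltL N l = true ↔ ∀ x ∈ l, x < N := by simp [ltL]
theorem allF_eq (p : ℕ → Bool) (j lo : ℕ) : allF p j lo = true ↔ ∀ i < 2 ^ j, p (lo + i) = true := by
  induction j generalizing lo with
  | zero => exact ⟨fun h i hi => by obtain rfl : i = 0 := by omega
                                    exact h, fun h => h 0 (by norm_num)⟩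
  | succ j ih =>
    show an (allF p j lo) (allF p j (lo + 2 ^ j)) = true ↔ _
    rw [an_eq, Bool.and_eq_true, ih, ih]
    refine ⟨fun h i hi => ?_, fun h => ⟨fun i hi => h i (by omega), fun i hi => ?_⟩⟩
    · by_cases h1 : i < 2 ^ j
      · exact h.1 i h1
      · have := h.2 (i - 2 ^ j) (by omega)
        rwa [show lo + 2 ^ j + (i - 2 ^ j) = lo + i by omega] at this
    · rw [add_assoc]; exact h _ (by omega)
theorem mkK_eq (m0 : Mu) (tabs : List ℕ) (n : ℕ) (k : Mu → Bool) :
    mkK m0 tabs n k = k (mk m0 tabs n) := by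
  induction tabs generalizing n k with
  | nil => rfl
  | cons a r ih =>
    show force n (fun n' => mkK m0 r (Nat.div n' 2) fun m => k (ext n' a m)) = _
    rw [force_eq, ih]; rfl
theorem stepK_eq (m0 : Mu) (k0 : ℕ) (rs : List Lv) (r : Lv) (c : List ℕ → Mu → Bool) :
    stepK m0 (towM m0 k0 rs) (k0 + rs.length) (towT m0 k0 rs) r c =
      c (towT m0 k0 (r :: rs)) (towM m0 k0 (r :: rs)) := by
  rw [stepK, frcL_eq, mkK_eq, towM, towM, List.length_cons, ← add_assoc, pow_succ,
    Nat.mul_div_cancel _ two_pos]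
  rfl
theorem towK_eq (m0 : Mu) (k0 : ℕ) (rs : List Lv) (c : ℕ → List ℕ → Mu → Bool) :
    towK m0 k0 rs c = c (k0 + rs.length) (towT m0 k0 rs) (towM m0 k0 rs) := by
  induction rs generalizing c with
  | nil => rfl
  | cons r rs ih => exact (ih _).trans ((stepK_eq _ _ _ _ _).trans (force_eq _ _))

end Cfsg.Agent.D8E
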