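import Mathlib
import Cfsg.Agent.D8E.Ar
import Cfsg.Agent.D8C.Rel

/-! The certificate checker for the climb from `C(t)` to a Sylow 2-subgroup. -/

set_option autoImplicit false

namespace Cfsg.Agent.D8E

/-- Static data: `ec` = `t` is outside `E`; `br` = the tower of `T`; `tb` = its table. -/
structure Ctx where
  ec : Bool
  ab : Bool
  kT : ℕ
  nT : ℕ
  tb : ℕ
  br : List Lv

/-- A state: upper levels, known conjugacies of tuples, elements not conjugate to `t`, and the mask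
of the possible values of `min 2 (v₂|G| - k)`. -/
structure St where
  rels : List Lv
  fs : List Fc
  nos : List ℕ
  rm : ℕ

noncomputable section

def beq (a b : ℕ) : Bool := Nat.beq a b
def lab (c : Ctx) (v : ℕ) : ℕ :=
  cd (orr c.ab (Nat.beq (Nat.land v 34) 0)) (Nat.land v 35) (Nat.land v 34)
def Ctx.m0 (c : Ctx) : Mu := bs c.tb c.nT
def dcodes : List ℕ := [0, 4, 8, 12, 16, 20, 24, 28]
def Ctx.ok (c : Ctx) : Bool :=
  an (beq (len c.br) c.kT) <| an (orr (beq c.kT 5) (beq c.kT 6)) <| an (beq c.nT (Nat.pow 2 c.kT)) <|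
  towK (fun a _ => a) 0 c.br fun _ _ m =>
    an (allF (fun a => allF (fun b =>
      an (beq (Nat.add (g7 c.tb (Nat.add (Nat.mul a 64) b)) a) (Nat.add 64 (m a b)))
        (beq (lab c (m a b)) (lab c (m b a)))) c.kT 0) c.kT 0) <|
    an (allF (fun v => al (fun d => beq (lab c (m v d)) (lab c v)) dcodes) c.kT 0) <|
    al (fun d => al (fun e => el (m d e) dcodes) dcodes) dcodes

/-- `f` on the entries of `l` with the stream advancing by `w`. -/
def alW (w : ℕ) (f : ℕ → ℕ → Bool) (l : List ℕ) : ℕ → Bool :=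
  List.rec (motive := fun _ => ℕ → Bool) (fun _ => true)
    (fun a _ ih d => an (f a d) (ih (sk d w))) l
/-- One product of `ws` for each entry of `u`, coordinates from the stream. -/
def apF (m : Mu) (ws u : List ℕ) : ℕ → List ℕ :=
  List.rec (motive := fun _ => ℕ → List ℕ) (fun _ => [])
    (fun _ _ ih d => pr m ws (hd d) :: ih (tl d)) u
/-- `y⁻¹ xs y = tg`. -/
def rel (m : Mu) (xs tg : List ℕ) (y : ℕ) : Bool :=
  al2 (fun x t => Nat.beq (m x y) (m y t)) xs tg
def evn (c : Ctx) (l : List ℕ) : Bool := orr (nt c.ec) (al (fun x => nt (odd x)) l)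
/-- Generators of `P ⊓ E`. -/
def eg (c : Ctx) (k : ℕ) : List ℕ := cd c.ec (gl (Nat.pred k) 2) (gl k 1)

def fstep (m : Mu) (us ws u : List ℕ) (d : ℕ) (k : List ℕ → Bool) : Bool :=
  an (alD (fun x cv => Nat.beq (pr m us cv) x) u d) (k (apF m ws u d))
def runP (m : Mu) (N : ℕ) (fs : List Fc) (L : ℕ) (k : List ℕ → Bool) (n : ℕ) : ℕ → List ℕ → Bool :=
  Nat.rec (motive := fun _ => ℕ → List ℕ → Bool) (fun _ u => k u) (fun _ ih d u =>
    cd (Nat.beq (hd d) 0)
      (force (gt d 1) fun p => force (gt d 2) fun q =>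
        an (lt p N) <| an (lt q N) <| an (Nat.beq (m p q) 0) <|
          ih (sk d 3) (mp (fun x => m (m q x) p) u))
      (nthK fs (fun f => cd (odd d) (fstep m f.1 f.2 u (tl d) (ih (sk d L)))
        (fstep m f.2 f.1 u (tl d) (ih (sk d L)))) (Nat.div (Nat.pred (hd d)) 2))) n
/-- Moves the tuple `u` along conjugations and known facts, then tests `k`. -/
def path (m : Mu) (N : ℕ) (fs : List Fc) (u : List ℕ) (d : ℕ) (k : List ℕ → Bool) : Bool :=
  runP m N fs (Nat.succ (len u)) k (hd d) (tl d) u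

def isNo (c : Ctx) (s : St) (m : Mu) (v : ℕ) : Bool :=
  orr (an c.ec (nt (odd v))) <| orr (el v s.nos) <| orr (beq v 0) (ne (m v v) 0)
def inB (x : ℕ) : Bool := an (lt x 32) (Nat.beq (Nat.land x 8) 0)
def frA : List ℕ := [1, 2, 4, 8]
def frB : List ℕ := [1, 6, 4, 16]
def dead0 (ty v : ℕ) : List ℕ := nth [] [[v], [1], [1, v], frA, frB, frA, [1, v], [v]] ty
def dead1 (c : Ctx) (s : St) (m : Mu) (ty v : ℕ) (w : List ℕ) : Bool :=
  nth false [an (ne v 0) (beq (nth 0 w 0) 0), isNo c s m (nth 0 w 0),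
    an (beq (nth 0 w 0) 1) <| an (lt v c.nT) <| an (lt (nth 0 w 1) c.nT)
      (ne (lab c v) (lab c (nth 0 w 1))),
    an (beq (nth 0 w 0) 1) <| an (ne (nth 0 w 1) 2) (ltL 16 w),
    an (beq (nth 0 w 0) 1) <| an (ne (nth 0 w 1) 6) (al inB w),
    an (beq (nth 0 w 0) 1) <| an (beq c.kT 5) (al inB w),
    an (beq (nth 0 w 0) 1) <| an (beq c.kT 5) <| an (orr (beq v 2) (beq v 3))
      (beq (nth 0 w 1) (Nat.add v 4)),
    an c.ec (ne (Nat.land v 1) (Nat.land (nth 0 w 0) 1))] ty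
/-- A contradiction. -/
def deadC (c : Ctx) (s : St) (m : Mu) (N : ℕ) (fs : List Fc) (d : ℕ) : Bool :=
  an (lt (gt d 1) N) (path m N fs (dead0 (hd d) (gt d 1)) (sk d 2) (dead1 c s m (hd d) (gt d 1)))

def relOK (m : Mu) (sg : List ℕ) (rels : List Lv) : Bool :=
  List.rec true (fun r rs ih => force (len rs) fun i => force (nth 0 sg i) fun g =>
    an (al2 (fun x a => an (lt a (Nat.pow 2 i)) (Nat.beq (m x g) (m g (pr m sg a)))) (tk sg i) r.1) <|
    an (lt r.2 (Nat.pow 2 i)) <| an (Nat.beq (m g g) (pr m sg r.2)) ih) rels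
def mvOK (w : List ℕ) : Bool :=
  orr (eqL w [1, 2, 4, 8, 16]) <| orr (eqL w [1, 3, 4, 8, 16]) <|
    orr (eqL w [1, 6, 4, 16, 8]) (eqL w [1, 7, 4, 16, 8])
/-- The generators `dl t.d k` carry the state `s` to the state `g`. -/
def isoC (c : Ctx) (s : St) (m : Mu) (N k : ℕ) (g : St) (t : Ct) : Bool :=
  frcL (dl t.d k) fun sg =>
    an (beq (Nat.add c.kT (len g.rels)) k) <| an (ltL N sg) <| an (relOK m sg (app g.rels c.br)) <|
    an (alD (fun e cv => Nat.beq (pr m sg cv) e) (gl k 1) (sk t.d k)) <|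
    an (orr (nt c.ec) (al2 (fun x e => Nat.beq (Nat.land x 1) (Nat.land e 1)) sg (gl k 1))) <|
    an (path m N s.fs (tk sg c.kT) (sk t.d (Nat.add k k)) fun w =>
      an (ltL c.nT w) (mvOK (tk w 5))) <|
    an (alT (fun f d => an (ltL N f.1) <| an (ltL N f.2) <|
      path m N s.fs (mp (pr m sg) f.1) d fun w => eqL w (mp (pr m sg) f.2)) g.fs t.l) <|
    an (alT (fun u d => an (lt u N) <|
      path m N s.fs [pr m sg u] d fun w => isNo c s m (nth 0 w 0)) g.nos t.r) <|
    beq (Nat.land s.rm g.rm) s.rm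
def sgL (k : ℕ) (t : Ct) : List (List ℕ) := t.ch fun _ l => dl l.d k
def sgOK (c : Ctx) (s : St) (m : Mu) (N k : ℕ) (g : St) (t : Ct) : Bool :=
  al (fun b => b) (t.ch fun _ l => isoC c s m N k g l)
def sgK (m : Mu) (sgs : List (List ℕ)) (i : ℕ) (k : (ℕ → ℕ) → Bool) : Bool :=
  Nat.rec (k fun v => v) (fun j _ => nthK sgs (fun sg => k (pr m sg)) j) i

def scan (pass : ℕ → Bool) (hit : ℕ → ℕ → Bool) (w : ℕ) (f : ℕ → ℕ) (C : List ℕ) : ℕ → Bool :=
  List.rec (motive := fun _ => ℕ → Bool) (fun _ => true) (fun a _ ih d => force (f a) fun x =>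
    cd (pass x) (an (hit x d) (ih (sk d w))) (ih d)) C
/-- All `x < B` with `x⁻¹ xs x = tg` that pass the test are hit. -/
def solve (m : Mu) (B : ℕ) (xs tg : List ℕ) (cens : List (List ℕ)) (pass : ℕ → Bool)
    (hit : ℕ → ℕ → Bool) (w d : ℕ) : Bool :=
  force (Nat.sub (len xs) (hd d)) fun j => force (gt d 1) fun s0 => nthK cens (fun C =>
    an (lt s0 B) <| an (rel m (tk xs j) (tk tg j) s0) <|
      scan (fun x => an (pass x) (rel m (dr xs j) (dr tg j) x)) hit w
        (fun a => cd (Nat.beq s0 0) a (m a s0)) C (sk d 2)) (hd d)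
/-- The relations of the levels hold in the group. -/
def lvOK (m : Mu) (N : ℕ) (lv : List ℕ) : List ℕ → Bool :=
  List.rec (motive := fun _ => List ℕ → Bool) (fun _ => true) (fun e _ ih dom =>
    an (lt (hd e) N) <| an (beq (m (hd e) (hd e)) (pr m dom (gt e 1))) <|
    an (rel m dom (apF m dom dom (sk e 2)) (hd e)) (ih (app dom [hd e]))) lv
def brC (c : Ctx) (m : Mu) (B : ℕ) (f0 : ℕ → Bool) (fe : Bool) (e : ℕ) (xs : List ℕ)
    (cens : List (List ℕ)) (d : ℕ) (reps : List ℕ) : Bool :=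
  force (pr m xs (gt e 1)) fun sq => frcL (apF m xs xs (sk e 2)) fun tg =>
    solve m B xs tg cens (fun x =>
      an (orr (nt c.ec) (Nat.beq (Nat.land x 1) (Nat.land e 1))) <|
      an (orr (ne (len xs) 0) (f0 x)) (Nat.beq (m x x) sq))
    (fun x d => force (hd d) fun p => nthK reps (fun w =>
      an (lt p B) <| an (orr (nt fe) (nt (odd p))) <|
      an (orr (Nat.beq p 0) (al (cm m p) xs)) (cj m x p w)) (gt d 1)) 2 d
/-- The search for all images of the chain `lv`; mode `true` is a branching node, mode `false` its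
list of representatives. -/
def srch (c : Ctx) (s : St) (m : Mu) (N B : ℕ) (f0 : ℕ → Bool) (fe : Bool)
    (xk : List ℕ → List ℕ → List ℕ → ℕ → Bool)
    (leaf : List ℕ → List ℕ → List (List ℕ) → ℕ → Bool) (t : Ct) :
    Bool → List ℕ → List ℕ → List ℕ → List (List ℕ) → Bool :=
  Ct.rec (motive := fun _ => Bool → List ℕ → List ℕ → List ℕ → List (List ℕ) → Bool)
    (fun md _ _ _ _ => nt md)
    (fun d l _ ihl ihr md lv dom xs cens => List.rec (motive := fun _ => Bool)
      (an md (leaf dom xs cens d))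
      (fun e lv' _ => cd md
        (an (brC c m B f0 fe e xs cens d (l.ch fun d _ => hd d)) (ihl false lv dom xs cens))
        (an (an (lt (hd d) B) <| frcL (app xs [hd d]) fun xs' => nth false
          [ihl true lv' (app dom [hd e]) xs' (fl (cm m (hd d)) (nth [] cens 0) :: cens),
           deadC c s m N ((app dom [hd e], xs') :: s.fs) (sk d 2),
           xk (app dom [hd e]) xs' (fl (cm m (hd d)) (nth [] cens 0)) (sk d 2)] (gt d 1))
          (ihr false lv dom xs cens))) lv) t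

def leafM (s : St) (m : Mu) (N : ℕ) (sgs kids : List (List ℕ)) (dom xs : List ℕ)
    (_ : List (List ℕ)) (d : ℕ) : Bool :=
  nthK kids (fun w => sgK m sgs (gt d 1) fun f =>
    path m N ((dom, xs) :: s.fs) (mp f dom) (sk d 2) fun o => eqL o (mp f w)) (hd d)
def szOK (m : Mu) (qs : List ℕ) : Bool :=
  an (al (cm m (nth 0 qs 0)) qs) (subK m qs fun _ _ => true)
def xkM (c : Ctx) (qs : List ℕ) (ok : Bool) (dom _xs C : List ℕ) (_ : ℕ) : Bool :=
  an ok <| an (beq (len dom) 1) <|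
    lt (len (cd (an c.ec (evn c qs)) (fl (fun x => nt (odd x)) C) C)) (Nat.pow 2 (len qs))
def xkC (c : Ctx) (m : Mu) (N : ℕ) (dom xs C : List ℕ) (d : ℕ) : Bool :=
  cd (beq (hd d) 0) (an (eqL dom [1]) (lt (len C) c.nT)) <|
  an (beq (pr m dom (hd d)) 1) <| an (lt (gt d 1) N) (cj m (pr m xs (hd d)) (gt d 1) 1)
def cov (c : Ctx) (m : Mu) (N k : ℕ) (sgs : List (List ℕ)) (kids : List Lv) (a : List ℕ)
    (cx y d : ℕ) : Bool :=
  force (gt d 2) fun p => nthK kids (fun r => sgK m sgs (gt d 1) fun f =>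
    an (lt p N) <| an (orr (nt c.ec) (nt (odd (Nat.add cx p)))) <|
    an (beq (cd (Nat.beq p 0) y (m (m y (pr m a p)) p)) (f r.2)) <|
    al2 (fun e b => cj m (pr m a (f e)) p (f b)) (gl k 1) r.1) (hd d)
def leafC (c : Ctx) (m : Mu) (N k : ℕ) (ic : List ℕ) (fe : Bool) (sgs : List (List ℕ))
    (kids : List Lv) (_dom xs : List ℕ) (cens : List (List ℕ)) (d : ℕ) : Bool :=
  frcL (mp (pr m xs) ic) fun a => frcL (mp (fun x => pr m a (pr m a x)) xs) fun tg =>
    solve m N xs tg cens (fun y => an (evn c [y]) (Nat.beq (pr m a y) y))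
      (fun y d => an (cov c m N k sgs kids a 0 y d)
        (orr (orr (nt c.ec) fe) (cov c m N k sgs kids a 1 y (sk d 3))))
      (cd (orr (nt c.ec) fe) 3 6) d

/-- The elements `gs` (inverses in the stream) conjugate `xs` into the set `S`. -/
def nrmC (m : Mu) (N S : ℕ) (xs gs : List ℕ) (d : ℕ) : Bool :=
  alD (fun g i => an (lt i N) <| an (beq (m g i) 0) (al (fun x => bit S (m (m i x) g)) xs)) gs d
def trH (c : Ctx) (s : St) (m : Mu) (N k : ℕ) (qs : List ℕ) (fe : Bool) (h : Ct)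
    (cont : ℕ → Bool) : Bool :=
  frcL (dl (tl h.d) (hd h.d)) fun ms => force (gt h.d (Nat.succ (hd h.d))) fun e =>
    an (beq s.rm 1) <| an (ltL N (e :: ms)) <| an (evn c (nth 0 qs 0 :: e :: ms)) <|
    an (beq (m (nth 0 qs 0) (nth 0 qs 0)) 0) <| an (al (cm m (nth 0 qs 0)) qs) <|
    an (orr (nt fe) (evn c qs)) <| subK m ms fun _ S =>
      an (nrmC m N S ms (cd fe (eg c k) (gl k 1)) h.l.d) <|
      an (alW 2 (fun g d => an (bit S (gt d 1)) (beq g (m (pw m e (hd d)) (gt d 1)))) (eg c k)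
        (sk h.d (Nat.add (hd h.d) 2))) (cont S)
def extH (s : St) (m : Mu) (N ns : ℕ) (lv : List ℕ) (h : Ct)
    (cont : List ℕ → List ℕ → Bool) : Bool :=
  frcL (tk (mp hd lv) ns) fun us => path m N s.fs us h.d fun w0 => frcL w0 fun ws =>
    path m N s.fs (cd (odd h.l.d) frB frA) (sk h.l.d 5) fun f =>
      an (eqL f (mp (pr m us) (dl (tl h.l.d) 4))) <|
      frcL (mp (pr m ws) (dl (tl h.l.d) 4)) fun f' => subK m f' fun A _ =>
        an (alD (fun e r => an (rel m us (apF m us us (sk e 2)) (hd e)) <|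
          an (lt r N) (rel m ws (apF m ws ws (sk e 2)) r)) (dr lv ns) h.l.l.d) <|
        cont ws (fl (fun v => al (cm m v) ws) (mp (gt A) (rng 16)))
/-- Headers of the searches for a conjugation map; `cont ws B L0 f0 fe`. -/
def hdrM (c : Ctx) (s : St) (m : Mu) (N k kind ns : ℕ) (lv : List ℕ) (h : Ct)
    (cont : List ℕ → ℕ → List ℕ → (ℕ → Bool) → Bool → Bool) : Bool :=
  nth false [
    an (beq ns 1) <| an (al (cm m (hd (nth 0 lv 0))) (mp hd lv)) <|
      cont [1] c.nT (rng c.nT) (fun _ => true) false,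
    extH s m N ns lv h fun ws L => cont ws N L (fun _ => true) false,
    an (beq ns 1) <| an (beq s.rm 1) <| an (al (cm m (hd (nth 0 lv 0))) (mp hd lv)) <|
      path m N s.fs [hd (nth 0 lv 0)] h.d fun w => force (nth 0 w 0) fun z =>
        an (al (cm m z) (gl k 1)) (cont [z] N (rng N) (fun _ => true) false),
    an (beq ns 0) <| trH c s m N k (mp hd lv) false h fun S => cont [] N (rng N) (bit S) false,
    an (beq ns 0) <| trH c s m N k (mp hd lv) true h fun S => cont [] N (rng N) (bit S) true] kind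
def St.drop (s : St) (n : ℕ) : St := ⟨s.rels, dr s.fs n, s.nos, s.rm⟩
/-- The local part of a map rule. -/
def mapC (c : Ctx) (s : St) (m : Mu) (N k d : ℕ) (l : Ct) (lv : List ℕ) (kids : Ct) : Bool :=
  an (ltL N (mp hd lv)) <| an (Nat.ble (gt d 3) (len lv)) <| an (lt 0 (len lv)) <|
  an (lvOK m N (dr lv (gt d 3)) (tk (mp hd lv) (gt d 3))) <|
  an (sgOK c s m N k (s.drop (gt d 2)) l.r.r.l) <|
  hdrM c s m N k (gt d 1) (gt d 3) lv l.r.l fun ws B L f0 fe =>
    srch c s m N B f0 fe (xkM c (mp hd lv) (szOK m (mp hd lv)))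
      (leafM s m N (sgL k l.r.r.l) (kids.ch fun d _ => dl d (len lv))) l.r.r.r
      true (dr lv (gt d 3)) (tk (mp hd lv) (gt d 3)) ws [L]

def xtK (c : Ctx) (m : Mu) (N d : ℕ) (cont : List ℕ → ℕ → List ℕ → Bool) : Bool :=
  frcL (cd (odd d) (m (gt d 1) (gt d 1) :: dl (tl d) 4) (dl (tl d) 3)) fun us =>
    an (ltL N us) <| an (evn c us) <| subK m us fun A S =>
      an (cd (odd d)
        (an (ne (nth 0 us 0) 0) <| an (al (fun x => beq (m x x) (nth 0 us 0)) (dr us 1)) <|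
          an (beq (m (m (gt d 1) (gt d 2)) (gt d 1)) (gt d 2)) <|
          an (beq (m (m (gt d 3) (gt d 4)) (gt d 3)) (gt d 4)) <|
          al (fun x => an (cm m x (gt d 3)) (cm m x (gt d 4))) [gt d 1, gt d 2])
        (allF (fun i => beq (m (gt A i) (gt A i)) 0) 3 0)) <|
      frcL (fl (fun v => al (cm m v) us) (rng N)) fun L =>
        an (al (fun v => orr (an c.ec (odd v)) (bit S v)) L) (cont us S L)
/-- Headers of the climbs; `cont ws L0`. -/
def hdrC (c : Ctx) (s : St) (m : Mu) (N k kind ns : ℕ) (fe : Bool) (lv : List ℕ) (h : Ct)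
    (cont : List ℕ → List ℕ → Bool) : Bool :=
  nth false [
    an (beq ns 0) <| an (nt fe) <| an (nt (odd s.rm)) (cont [] (rng N)),
    an (nt fe) <| extH s m N ns lv h fun ws L => frcL (tk (mp hd lv) ns) fun us =>
      an (alD (fun w cv => beq w (pr m us cv)) ws h.r.d) <| an (lt (gt h.r.d ns) N) <|
      an (alD (fun u cv => cj m u (gt h.r.d ns) (pr m ws cv)) us h.r.d) <|
      an (allF (fun r => nt (rel m us ws r)) k 0) <|
      orr (beq (Nat.land s.rm 6) 0) (cont ws L),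
    xtK c m N h.d fun us S L => an (nrmC m N S us (gl k 1) h.l.d) <|
      an (eqL (tk (mp hd lv) ns) us) <| orr (beq (Nat.land s.rm 6) 0) (cont us L)] kind
def kidC (k d : ℕ) : Lv := (dl (tl d) k, hd d)
/-- The local part of a climb. -/
def climbC (c : Ctx) (s : St) (m : Mu) (N k d : ℕ) (l : Ct) (lv : List ℕ) (kids : Ct) : Bool :=
  an (ltL N (mp hd lv)) <| an (Nat.ble (gt d 3) (len lv)) <|
  an (lvOK m N (dr lv (gt d 3)) (tk (mp hd lv) (gt d 3))) <|
  an (alD (fun e cv => beq e (pr m (mp hd lv) cv)) (gl k 1) (sk d 5)) <|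
  an (sgOK c s m N k (s.drop (gt d 2)) l.r.r.l) <|
  hdrC c s m N k (gt d 1) (gt d 3) (odd (gt d 4)) lv l.r.l fun ws L =>
    srch c s m N N (fun _ => true) (odd (gt d 4)) (xkC c m N)
      (leafC c m N k (dl (sk d 5) k) (odd (gt d 4)) (sgL k l.r.r.l) (kids.ch fun d _ => kidC k d))
      l.r.r.r true (dr lv (gt d 3)) (tk (mp hd lv) (gt d 3)) ws [L]

/-- Counts the `i < n` with `skip i` false and `cnt` true; every such `i` must be hit. -/
def cntL (f : ℕ → ℕ) (skip : ℕ → Bool) (hit : ℕ → ℕ → Bool) (cnt : ℕ → Bool) (fin : ℕ → Bool)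
    (n : ℕ) : ℕ → ℕ → Bool :=
  Nat.rec (motive := fun _ => ℕ → ℕ → Bool) (fun _ a => fin a) (fun i ih d a => force (f i) fun e =>
    cd (skip e) (ih d a) (an (hit e d) (force (cd (cnt d) (Nat.succ a) a) fun a' =>
      ih (sk d 2) a'))) n
def parM (k l X : ℕ) : ℕ :=
  let ok := fun r => an (beq (cd (Nat.ble (l + 1) (k + r)) 1 0) (cd (beq (X % 2 ^ (l + 1)) 0) 1 0))
    (beq (cd (Nat.ble (l + 2) (k + r)) 1 0) (cd (beq (X % 2 ^ (l + 2)) 0) 1 0))
  cd (beq (X % 2 ^ l) 0) (cd (ok 0) 1 0 + cd (ok 1) 2 0 + cd (ok 2) 4 0) 0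
def parC (c : Ctx) (s : St) (m : Mu) (N k d : ℕ) (t : Ct) (cont : ℕ → Bool) : Bool :=
  frcL (dl (sk d 2) (gt d 1)) fun ks => an (nt c.ec) <| an (ltL N ks) <| subK m ks fun A _ =>
    an (al (fun e => path m N s.fs [1] (tl e) fun w => eqL w [hd e]) (t.l.ch fun e _ => e)) <|
    an (al (fun u => an (lt u N) (isNo c s m u)) (dl (tl t.d) (hd t.d))) <|
    frcL (app (t.l.ch fun e _ => hd e) (dl (tl t.d) (hd t.d))) fun reps =>
    force (len (t.l.ch fun e _ => hd e)) fun ny =>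
      cntL (gt A) (fun e => orr (beq e 0) (ne (m e e) 0))
        (fun e d => nthK reps (fun w => an (lt (hd d) N) (cj m e (hd d) w)) (gt d 1))
        (fun d => lt (gt d 1) ny)
        (fun a => force (Nat.land s.rm (parM k (gt d 1) (Nat.mul c.nT a))) cont)
        (Nat.pow 2 (gt d 1)) (sk d (Nat.add 2 (gt d 1))) 0
def bigC (c : Ctx) (m : Mu) (N d : ℕ) : Bool :=
  frcL (dl (sk d 3) (gt d 2)) fun gs => an (lt (gt d 1) N) <| an (ltL N gs) <|
    an (lt c.kT (gt d 2)) <| an (al (cm m (gt d 1)) gs) (subK m gs fun _ _ => true)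
def tgC (c : Ctx) (m : Mu) (N k : ℕ) (n : ℕ) (rs : List (List ℕ)) (d : ℕ) (t : Ct) : Bool :=
  frcL (dl d n) fun e => an (ltL N e) <| an (evn c e) <| an (al (fun w => beq (evW m e w) 0) rs) <|
    alT (fun g d => beq g (evW m e (dl (tl d) (hd d)))) (eg c k) t
/-- Exits at a Sylow 2-subgroup. -/
def exitC (c : Ctx) (s : St) (m : Mu) (N k d : ℕ) (l r : Ct) : Bool :=
  an (beq s.rm 1) <| nth false [
    an c.ec <| an (orr (beq k 8) (beq k 9)) <| alW k (fun a d => alD (fun b x => an (lt x N) <|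
      an (beq (m a b) (m x (m b a))) (al (cm m x) (eg c k))) (eg c k) d) (eg c k) (sk d 2),
    an (nt c.ec) <| an (beq k 9) (tgC c m N k 3 D8C.relH (sk d 2) l),
    an c.ec <| an (beq k 11) <| an (tgC c m N k 10 D8C.relL (sk d 2) l) <|
      scan (fun u => an (odd u) (beq (m u u) 0)) (fun u d => an (lt (hd d) N) (cj m u (hd d) 1)) 1
        (fun u => u) (rng N) r.d,
    an c.ec <| an (beq k 11) (tgC c m N k 10 D8C.relU (sk d 2) l),
    xtK c m N (sk d 2) fun _ _ _ => true,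
    cntL (fun i => i) (fun v => orr (an c.ec (odd v)) (ne (m v v) 0))
      (fun v d => orr (beq (hd d) 0) <| an (lt (hd d) N) <| an (evn c [hd d]) <|
        an (lt (gt d 1) N) <| an (cj m v (hd d) (gt d 1)) (nt (cm m v (gt d 1))))
      (fun d => beq (hd d) 0) (fun a => Nat.ble a 7) N (sk d 2) 0] (gt d 1)

end

end Cfsg.Agent.D8E
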